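import Mathlib

/-!
The subgroup generated by the derangements of a transitive group.
-/

set_option autoImplicit false

namespace Cfsg.Agent.Derange

open MulAction

variable {G Ω : Type*} [Group G] [MulAction G Ω]

variable (G Ω) in
/-- the subgroup generated by the derangements -/
def dsub : Subgroup G := Subgroup.closure {g : G | ∀ ω : Ω, g • ω ≠ ω}

theorem dsub_normal : (dsub G Ω).Normal := by
  constructor
  intro n hn g
  induction hn using Subgroup.closure_induction with
  | mem x hx =>
    apply Subgroup.subset_closure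
    intro ω h
    apply hx (g⁻¹ • ω)
    rw [mul_smul, mul_smul] at h
    exact (eq_inv_smul_iff.mpr h)
  | one => simp [one_mem]
  | mul x y _ _ hx hy =>
    have h2 : g * (x * y) * g⁻¹ = (g * x * g⁻¹) * (g * y * g⁻¹) := by group
    rw [h2]; exact mul_mem hx hy
  | inv x _ hx =>
    have h2 : g * x⁻¹ * g⁻¹ = (g * x * g⁻¹)⁻¹ := by group
    rw [h2]; exact inv_mem hx

theorem fix_pos_of_notMem [Finite Ω] {g : G} (hg : g ∉ dsub G Ω) :
    1 ≤ Nat.card (fixedBy Ω g) := by
  by_contra h
  apply hg
  apply Subgroup.subset_closure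
  intro ω hω
  have : Nonempty (fixedBy Ω g) := ⟨⟨ω, hω⟩⟩
  have := Nat.card_pos (α := fixedBy Ω g)
  omega

theorem sum_fix (K : Type*) (α : Type*) [Group K] [Fintype K] [MulAction K α] [Finite α] :
    ∑ k : K, Nat.card (fixedBy α k) = Nat.card (orbitRel.Quotient K α) * Nat.card K := by
  classical
  have := Fintype.ofFinite α
  simp only [Nat.card_eq_fintype_card]
  exact sum_card_fixedBy_eq_card_orbits_mul_card_group K α

theorem card_orbits_eq_one [htr : IsPretransitive G Ω] [Nonempty Ω] :
    Nat.card (orbitRel.Quotient G Ω) = 1 := by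
  have := pretransitive_iff_subsingleton_quotient G Ω |>.mp htr
  exact Nat.card_eq_one_iff_unique.mpr ⟨this, ⟨Quotient.mk'' (Classical.arbitrary Ω)⟩⟩

/-- splitting of a sum over `G` along `D` -/
theorem sum_split [Fintype G] (D : Subgroup G) [DecidablePred (· ∈ D)] (f : G → ℕ) :
    ∑ g : G, f g = ∑ g : D, f g + ∑ g ∈ Finset.univ.filter (fun g => g ∉ D), f g := by
  rw [← Finset.sum_filter_add_sum_filter_not Finset.univ (fun g => g ∈ D) f]
  congr 1
  exact Finset.sum_subtype _ (by simp) f

theorem card_filter_notMem [Fintype G] (D : Subgroup G) [DecidablePred (· ∈ D)] :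
    (Finset.univ.filter (fun g : G => g ∉ D)).card + Nat.card D = Nat.card G := by
  rw [Nat.card_eq_fintype_card, Nat.card_eq_fintype_card, Fintype.card_subtype, add_comm]
  exact Finset.card_filter_add_card_filter_not (s := Finset.univ) (fun g => g ∈ D)

theorem key [Finite G] [Finite Ω] [Nonempty Ω] [IsPretransitive G Ω] :
    Nat.card (orbitRel.Quotient (dsub G Ω) Ω) = 1 ∧
      ∀ g : G, g ∉ dsub G Ω → Nat.card (fixedBy Ω g) = 1 := by
  classical
  have := Fintype.ofFinite G
  set D := dsub G Ω
  have hG := sum_fix G Ω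
  rw [card_orbits_eq_one, one_mul, sum_split D] at hG
  have hD : ∑ g : D, Nat.card (fixedBy Ω (g : G)) =
      Nat.card (orbitRel.Quotient D Ω) * Nat.card D := sum_fix D Ω
  rw [hD] at hG
  have hc := card_filter_notMem D
  set S := Finset.univ.filter (fun g : G => g ∉ D)
  have hle : S.card ≤ ∑ g ∈ S, Nat.card (fixedBy Ω g) := by
    rw [Finset.card_eq_sum_ones]
    exact Finset.sum_le_sum fun g hg => fix_pos_of_notMem (by simpa [S] using hg)
  have hm : 1 ≤ Nat.card (orbitRel.Quotient D Ω) := by
    have : Nonempty (orbitRel.Quotient D Ω) := ⟨Quotient.mk'' (Classical.arbitrary Ω)⟩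
    exact Nat.card_pos
  have hDpos : 0 < Nat.card D := Nat.card_pos
  have hm1 : Nat.card (orbitRel.Quotient D Ω) = 1 := by nlinarith
  refine ⟨hm1, fun g hg => ?_⟩
  rw [hm1, one_mul] at hG
  have heq : ∑ g ∈ S, Nat.card (fixedBy Ω g) = ∑ _g ∈ S, 1 := by
    rw [← Finset.card_eq_sum_ones]; omega
  exact ((Finset.sum_eq_sum_iff_of_le (fun g hg => fix_pos_of_notMem (by simpa [S] using hg))).mp
    heq.symm g (by simpa [S] using hg)).symm

theorem dsub_pretransitive [Finite G] [Finite Ω] [IsPretransitive G Ω] :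
    IsPretransitive (dsub G Ω) Ω := by
  rcases isEmpty_or_nonempty Ω with h | h
  · exact ⟨fun x => isEmptyElim x⟩
  · exact (pretransitive_iff_subsingleton_quotient _ _).mpr
      (Nat.card_eq_one_iff_unique.mp key.1).1

theorem mem_of_fix_ne_one [Finite G] [Finite Ω] [IsPretransitive G Ω] {g : G}
    (hg : Nat.card (fixedBy Ω g) ≠ 1) : g ∈ dsub G Ω := by
  rcases isEmpty_or_nonempty Ω with h | h
  · exact Subgroup.subset_closure fun ω => isEmptyElim ω
  · by_contra hm
    exact hg (key.2 g hm)

theorem stabilizer_inf_le [Finite G] [Finite Ω] [IsPretransitive G Ω] {a b : Ω} (hab : a ≠ b) :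
    stabilizer G a ⊓ stabilizer G b ≤ dsub G Ω := by
  intro g hg
  apply mem_of_fix_ne_one
  intro h1
  obtain ⟨hs, -⟩ := Nat.card_eq_one_iff_unique.mp h1
  exact hab (congrArg Subtype.val (hs.elim ⟨a, hg.1⟩ ⟨b, hg.2⟩))

theorem card_stabilizer_mul (H : Type*) [Group H] [MulAction H Ω] [IsPretransitive H Ω] (a : Ω) :
    Nat.card (stabilizer H a) * Nat.card Ω = Nat.card H := by
  rw [← index_stabilizer_of_transitive H a, Subgroup.card_mul_index]

theorem relIndex_eq [Finite G] [Finite Ω] [IsPretransitive G Ω] (a : Ω) :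
    (dsub G Ω).relIndex (stabilizer G a) = (dsub G Ω).index := by
  set D := dsub G Ω
  have : IsPretransitive D Ω := dsub_pretransitive
  have : Nonempty Ω := ⟨a⟩
  have e1 := card_stabilizer_mul (Ω := Ω) G a
  have e2 := card_stabilizer_mul (Ω := Ω) D a
  have e3 : Nat.card (stabilizer D a) = Nat.card (D.subgroupOf (stabilizer G a)) :=
    Nat.card_congr
      { toFun := fun x => ⟨⟨x.1.1, x.2⟩, x.1.2⟩
        invFun := fun x => ⟨⟨x.1.1, x.2⟩, x.1.2⟩
        left_inv := fun _ => rfl
        right_inv := fun _ => rfl }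
  have e4 := Subgroup.card_mul_index (D.subgroupOf (stabilizer G a))
  have e5 := Subgroup.card_mul_index D
  rw [← e3] at e4
  have h4 : Nat.card (stabilizer D a) * D.relIndex (stabilizer G a) = Nat.card (stabilizer G a) := e4
  have h : Nat.card (stabilizer D a) * Nat.card Ω * D.relIndex (stabilizer G a) =
      Nat.card (stabilizer D a) * Nat.card Ω * D.index := by
    rw [mul_right_comm, h4, e1, e2, e5]
  exact Nat.eq_of_mul_eq_mul_left (Nat.mul_pos Nat.card_pos Nat.card_pos) h

theorem index_dvd_orbit [Finite G] [Finite Ω] [IsPretransitive G Ω] {a b : Ω} (hab : a ≠ b) :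
    (dsub G Ω).index ∣ (orbit (stabilizer G a) b).ncard := by
  rw [← index_stabilizer, ← relIndex_eq a]
  apply Subgroup.index_dvd_of_le
  intro x hx
  exact stabilizer_inf_le hab ⟨x.2, hx⟩

theorem index_dvd_ncard [Finite G] [Finite Ω] [IsPretransitive G Ω] (a : Ω) :
    ∀ T : Set Ω, a ∉ T → (∀ g ∈ stabilizer G a, ∀ t ∈ T, g • t ∈ T) →
      (dsub G Ω).index ∣ T.ncard := by
  intro T
  induction hn : T.ncard using Nat.strong_induction_on generalizing T with
  | _ n ih =>
    intro ha hinv
    rcases T.eq_empty_or_nonempty with rfl | ⟨b, hb⟩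
    · simp [← hn]
    · subst hn
      set O := orbit (stabilizer G a) b
      have hsub : O ⊆ T := by
        rintro _ ⟨g, rfl⟩
        exact hinv g g.2 b hb
      have hbO : b ∈ O := mem_orbit_self b
      have hdisj : ∀ g ∈ stabilizer G a, ∀ t ∈ T \ O, g • t ∈ T \ O := by
        intro g hg t ht
        refine ⟨hinv g hg t ht.1, fun hO => ht.2 ?_⟩
        obtain ⟨k, hk⟩ := hO
        refine ⟨(⟨g, hg⟩ : stabilizer G a)⁻¹ * k, ?_⟩
        dsimp only at hk ⊢
        rw [mul_smul, hk]
        exact inv_smul_smul g t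
      have hc : (T \ O).ncard + O.ncard = T.ncard := Set.ncard_diff_add_ncard_of_subset hsub
      have hO0 : 0 < O.ncard := (Set.ncard_pos).mpr ⟨b, hbO⟩
      rw [← hc]
      exact dvd_add (ih _ (by omega) (T \ O) rfl (fun h => ha h.1) hdisj)
        (index_dvd_orbit (fun h => ha (h ▸ hb)))

theorem index_dvd_sub_one [Finite G] [Finite Ω] [IsPretransitive G Ω] (a : Ω) :
    (dsub G Ω).index ∣ Nat.card Ω - 1 := by
  have h := index_dvd_ncard (G := G) a {a}ᶜ (by simp) ?_
  · rwa [Set.ncard_compl, Set.ncard_singleton] at h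
  · intro g hg t ht h
    apply ht
    have h2 : g • a = a := hg
    exact smul_left_cancel g (Eq.trans h h2.symm)

end Cfsg.Agent.Derange
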